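import Mathlib.RingTheory.Bialgebra.Convolution
import Mathlib.RingTheory.PowerSeries.Log
import Mathlib.RingTheory.PowerSeries.Exp
import Mathlib.RingTheory.PowerSeries.Substitution
import Mathlib.RingTheory.PowerSeries.Trunc
import Mathlib.RingTheory.PowerSeries.Inverse
import Mathlib.Tactic

/-!
Evaluation of power series at pointwise nilpotent maps in a convolution algebra.
-/

set_option autoImplicit false
set_option linter.style.haveILetI false
set_option backward.isDefEq.respectTransparency false
set_option synthInstance.maxHeartbeats 200000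

universe u

open TensorProduct WithConv LinearMap Polynomial

namespace Groth.Agent.CartierKostant

variable {k : Type u} [Field k] {C : Type u} [AddCommGroup C] [Module k C] [Coalgebra k C]
  {A : Type u} [Ring A] [Algebra k A]

/-- Pointwise nilpotent elements of the convolution algebra. -/
def LocNil (J : WithConv (C →ₗ[k] A)) : Prop := ∀ x, ∃ N, ∀ m, N ≤ m → (J ^ m) x = 0

/-- Evaluation of a power series at a pointwise nilpotent element. -/
noncomputable def ev (J : WithConv (C →ₗ[k] A)) (hJ : LocNil J) (F : PowerSeries k) : WithConv (C →ₗ[k] A) :=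
  toConv
    { toFun := fun x => ∑ᶠ n, PowerSeries.coeff n F • (J ^ n) x
      map_add' := fun x y => by
        obtain ⟨Nx, hx⟩ := hJ x
        obtain ⟨Ny, hy⟩ := hJ y
        have h1 : (Function.support fun n => PowerSeries.coeff n F • (J ^ n) x).Finite :=
          (Set.finite_Iio Nx).subset fun n hn => by_contra fun h => hn (by simp only [hx n (not_lt.1 h), smul_zero])
        have h2 : (Function.support fun n => PowerSeries.coeff n F • (J ^ n) y).Finite :=
          (Set.finite_Iio Ny).subset fun n hn => by_contra fun h => hn (by simp only [hy n (not_lt.1 h), smul_zero])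
        rw [← finsum_add_distrib h1 h2]
        simp [smul_add]
      map_smul' := fun c x => by
        rw [RingHom.id_apply, smul_finsum]
        simp [smul_comm c] }

variable {J : WithConv (C →ₗ[k] A)} (hJ : LocNil J)

theorem ev_apply (F : PowerSeries k) {x : C} {N : ℕ} (hN : ∀ m, N ≤ m → (J ^ m) x = 0) :
    ev J hJ F x = ∑ n ∈ Finset.range N, PowerSeries.coeff n F • (J ^ n) x :=
  finsum_eq_sum_of_support_subset _ fun n hn => by
    simp only [Finset.coe_range, Set.mem_Iio]
    exact by_contra fun h => hn (by simp only [hN n (not_lt.1 h), smul_zero])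

theorem aeval_apply (p : k[X]) {x : C} {N : ℕ} (hN : ∀ m, N ≤ m → (J ^ m) x = 0) :
    aeval J p x = ∑ n ∈ Finset.range N, p.coeff n • (J ^ n) x := by
  induction p using Polynomial.induction_on' with
  | add p q hp hq =>
    simp only [map_add, Polynomial.coeff_add, add_smul, Finset.sum_add_distrib, ← hp, ← hq]
    rfl
  | monomial i c =>
    rw [aeval_monomial, ← Algebra.smul_def]
    change c • (J ^ i) x = _
    rcases lt_or_ge i N with h | h
    · rw [Finset.sum_eq_single_of_mem i (Finset.mem_range.2 h) fun j _ hj => by simp [Polynomial.coeff_monomial, hj.symm]]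
      simp
    · rw [hN i h, smul_zero, Finset.sum_eq_zero]
      intro j hj
      rw [Polynomial.coeff_monomial, if_neg (by have := Finset.mem_range.1 hj; omega), zero_smul]

theorem ev_eq_aeval (F : PowerSeries k) {x : C} {N : ℕ} (hN : ∀ m, N ≤ m → (J ^ m) x = 0) (p : k[X])
    (hp : ∀ n < N, p.coeff n = PowerSeries.coeff n F) : ev J hJ F x = aeval J p x := by
  rw [ev_apply hJ F hN, aeval_apply p hN]
  exact Finset.sum_congr rfl fun n hn => by rw [hp n (Finset.mem_range.1 hn)]

theorem ev_add (F G : PowerSeries k) : ev J hJ (F + G) = ev J hJ F + ev J hJ G := by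
  ext x
  obtain ⟨N, hN⟩ := hJ x
  change ev J hJ (F + G) x = ev J hJ F x + ev J hJ G x
  simp only [ev_apply hJ _ hN, map_add, add_smul, Finset.sum_add_distrib]

theorem ev_coe (p : k[X]) : ev J hJ p = aeval J p := by
  ext x
  obtain ⟨N, hN⟩ := hJ x
  exact ev_eq_aeval hJ _ hN p fun n _ => (Polynomial.coeff_coe _ _).symm

theorem ev_one : ev J hJ 1 = 1 := by rw [← Polynomial.coe_one, ev_coe, map_one]

theorem ev_X : ev J hJ PowerSeries.X = J := by rw [← Polynomial.coe_X, ev_coe, aeval_X]

theorem ev_mul (F G : PowerSeries k) : ev J hJ (F * G) = ev J hJ F * ev J hJ G := by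
  classical
  ext x
  obtain ⟨ι, index, left, right, hx⟩ : ∃ (ι : Type u) (index : Finset ι) (left right : ι → C),
      (∑ i ∈ index, left i ⊗ₜ[k] right i) = Coalgebra.comul x := by
    obtain ⟨s, hs⟩ := TensorProduct.exists_finset (Coalgebra.comul (R := k) x)
    exact ⟨_, s, Prod.fst, Prod.snd, hs.symm⟩
  have hJ' := hJ
  choose N hN using hJ'
  let M := max (N x) (index.sup fun i => max (N (left i)) (N (right i)))
  have hMx : ∀ m, M ≤ m → (J ^ m) x = 0 := fun m hm => hN x m (le_trans (le_max_left _ _) hm)
  have hl : ∀ i ∈ index, ∀ m, M ≤ m → (J ^ m) (left i) = 0 := fun i hi m hm =>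
    hN _ m (le_trans ((le_max_left _ _).trans ((Finset.le_sup (f := fun i => max (N (left i)) (N (right i))) hi).trans (le_max_right _ _))) hm)
  have hr : ∀ i ∈ index, ∀ m, M ≤ m → (J ^ m) (right i) = 0 := fun i hi m hm =>
    hN _ m (le_trans ((le_max_right _ _).trans ((Finset.le_sup (f := fun i => max (N (left i)) (N (right i))) hi).trans (le_max_right _ _))) hm)
  let p := PowerSeries.trunc M F
  let q := PowerSeries.trunc M G
  have hpq : ∀ n < M, (p * q).coeff n = PowerSeries.coeff n (F * G) := fun n hn => by
    rw [Polynomial.coeff_mul, PowerSeries.coeff_mul]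
    refine Finset.sum_congr rfl fun ij hij => ?_
    rw [Finset.mem_antidiagonal] at hij
    rw [PowerSeries.coeff_trunc, PowerSeries.coeff_trunc, if_pos (by omega), if_pos (by omega)]
  rw [show (ev J _ (F * G)).ofConv x = _ from ev_eq_aeval _ _ hMx (p * q) hpq, map_mul, convMul_apply, convMul_apply, ← hx]
  simp only [map_sum, TensorProduct.map_tmul, mul'_apply]
  refine Finset.sum_congr rfl fun i hi => ?_
  congr 1
  · exact (ev_eq_aeval _ _ (hl i hi) p fun n hn => by rw [PowerSeries.coeff_trunc, if_pos hn]).symm
  · exact (ev_eq_aeval _ _ (hr i hi) q fun n hn => by rw [PowerSeries.coeff_trunc, if_pos hn]).symm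

theorem ev_pow (F : PowerSeries k) (n : ℕ) : ev J hJ (F ^ n) = ev J hJ F ^ n := by
  induction n with
  | zero => rw [pow_zero, pow_zero, ev_one]
  | succ n ih => rw [pow_succ, ev_mul, ih, pow_succ]

theorem coeff_pow_eq_zero {G : PowerSeries k} (hG : PowerSeries.constantCoeff G = 0) {n m : ℕ} (h : n < m) :
    PowerSeries.coeff n (G ^ m) = 0 := by
  obtain ⟨H, rfl⟩ := PowerSeries.X_dvd_iff.2 hG
  rw [mul_pow, PowerSeries.coeff_X_pow_mul', if_neg (by omega)]

theorem locNil_ev {G : PowerSeries k} (hG : PowerSeries.constantCoeff G = 0) : LocNil (ev J hJ G) := fun x => by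
  obtain ⟨N, hN⟩ := hJ x
  refine ⟨N, fun m hm => ?_⟩
  rw [← ev_pow, ev_apply hJ _ hN]
  refine Finset.sum_eq_zero fun n hn => ?_
  rw [coeff_pow_eq_zero hG (lt_of_lt_of_le (Finset.mem_range.1 hn) hm), zero_smul]

theorem ev_subst (F : PowerSeries k) {G : PowerSeries k} (hG : PowerSeries.constantCoeff G = 0)
    (h : LocNil (ev J hJ G)) : ev J hJ (F.subst G) = ev (ev J hJ G) h F := by
  classical
  ext x
  obtain ⟨N, hN⟩ := hJ x
  have hN' : ∀ m, N ≤ m → (ev J hJ G ^ m) x = 0 := fun m hm => by
    rw [← ev_pow, ev_apply hJ _ hN]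
    refine Finset.sum_eq_zero fun n hn => ?_
    rw [coeff_pow_eq_zero hG (lt_of_lt_of_le (Finset.mem_range.1 hn) hm), zero_smul]
  change ev J hJ (F.subst G) x = ev (ev J hJ G) h F x
  rw [ev_apply hJ _ hN, ev_apply h F hN']
  simp only [← ev_pow, ev_apply hJ _ hN, Finset.smul_sum, smul_smul]
  rw [Finset.sum_comm]
  refine Finset.sum_congr rfl fun n hn => ?_
  rw [← Finset.sum_smul, PowerSeries.coeff_subst' (PowerSeries.HasSubst.of_constantCoeff_zero' hG)]
  congr 1
  rw [finsum_eq_sum_of_support_subset _ (s := Finset.range N) fun d hd => ?_]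
  · simp only [smul_eq_mul]
  · simp only [Finset.coe_range, Set.mem_Iio]
    refine by_contra fun hd' => hd ?_
    simp only [coeff_pow_eq_zero hG (lt_of_lt_of_le (Finset.mem_range.1 hn) (not_lt.1 hd')), smul_zero]

theorem exp_subst_log [CharZero k] [Algebra ℚ k] :
    (PowerSeries.exp k).subst (PowerSeries.log k) = 1 + PowerSeries.X := by
  have hL : PowerSeries.HasSubst (PowerSeries.log k) := PowerSeries.HasSubst.log
  set E := (PowerSeries.exp k).subst (PowerSeries.log k) with hE
  have hD : PowerSeries.derivative k E = E * PowerSeries.derivative k (PowerSeries.log k) := by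
    rw [hE, PowerSeries.derivative_subst hL, PowerSeries.derivative_exp]
  have hgeo : (1 + PowerSeries.X) * PowerSeries.derivative k (PowerSeries.log k) = (1 : PowerSeries k) := by
    rw [PowerSeries.deriv_log]
    ext n
    rw [add_mul, one_mul, map_add, PowerSeries.coeff_mk, PowerSeries.coeff_one]
    cases n with
    | zero => simp
    | succ n => simp [PowerSeries.coeff_succ_X_mul, pow_succ]
  have h0 : PowerSeries.constantCoeff E = 1 := by
    rw [← PowerSeries.coeff_zero_eq_constantCoeff_apply, hE, PowerSeries.coeff_subst' hL, finsum_eq_single _ 0]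
    · simp
    · intro d hd
      rw [coeff_pow_eq_zero PowerSeries.constantCoeff_log (Nat.pos_of_ne_zero hd), smul_zero]
  have key : (1 + PowerSeries.X) * PowerSeries.derivative k E = E := by
    rw [hD, mul_left_comm, hgeo, mul_one]
  ext n
  induction n using Nat.strong_induction_on with
  | _ n ih =>
    cases n with
    | zero => rw [PowerSeries.coeff_zero_eq_constantCoeff_apply, h0]; simp
    | succ n =>
      have := congrArg (PowerSeries.coeff n) key
      rw [add_mul, one_mul, map_add, PowerSeries.coeff_derivative, ih n (Nat.lt_succ_self n)] at this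
      cases n with
      | zero => simpa using this
      | succ n =>
        rw [PowerSeries.coeff_succ_X_mul, PowerSeries.coeff_derivative, ih (n + 1) (Nat.lt_succ_self _)] at this
        rcases n with _ | n
        · simp [PowerSeries.coeff_X, PowerSeries.coeff_one] at this ⊢
          exact this
        · simp [PowerSeries.coeff_X, PowerSeries.coeff_one] at this ⊢
          exact this.resolve_right fun h => Nat.succ_ne_zero (n + 2) (by exact_mod_cast h)

end Groth.Agent.CartierKostant
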