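import Mathlib.Algebra.Lie.UniversalEnveloping
import Mathlib.Algebra.Algebra.Operations
import Mathlib.Algebra.Polynomial.Roots
import Mathlib.LinearAlgebra.Dual.Lemmas
import Mathlib.LinearAlgebra.Quotient.Basic
import Mathlib.Tactic

/-!
In characteristic zero the enveloping algebra is spanned by powers of elements of the Lie algebra.
-/

set_option autoImplicit false
set_option backward.isDefEq.respectTransparency false

universe u

namespace Groth.Agent.CartierKostant

attribute [local instance 100] LieRing.ofAssociativeRing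

theorem linCoeff_eq_zero {k : Type u} [Field k] [CharZero k] {V : Type u} [AddCommGroup V] [Module k V]
    {ι : Type*} (s : Finset ι) (d : ι → ℕ) (v : ι → V) (h : ∀ j : ℕ, ∑ i ∈ s, (j : k) ^ d i • v i = 0) :
    ∑ i ∈ s, (if d i = 1 then v i else 0) = 0 := by
  rw [← Module.forall_dual_apply_eq_zero_iff k]
  intro φ
  let P : Polynomial k := ∑ i ∈ s, Polynomial.monomial (d i) (φ (v i))
  have hP : P = 0 := by
    refine Polynomial.eq_zero_of_infinite_isRoot _ (Set.Infinite.mono ?_ (Set.infinite_range_of_injective (Nat.cast_injective (R := k))))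
    rintro _ ⟨j, rfl⟩
    change P.eval (j : k) = 0
    have := congrArg φ (h j)
    simp only [map_sum, map_smul, smul_eq_mul, map_zero] at this
    simp only [P, Polynomial.eval_finset_sum, Polynomial.eval_monomial]
    exact (Finset.sum_congr rfl fun i _ => mul_comm _ _).trans this
  have := congrArg (fun p => Polynomial.coeff p 1) hP
  simp only [P, Polynomial.finset_sum_coeff, Polynomial.coeff_monomial, Polynomial.coeff_zero] at this
  rw [map_sum, ← this]
  exact Finset.sum_congr rfl fun i _ => by split <;> simp_all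

variable {k : Type u} [Field k] [CharZero k] {L : Type u} [LieRing L] [LieAlgebra k L]

/-- The generating subspace. -/
def gen (k : Type u) [Field k] (L : Type u) [LieRing L] [LieAlgebra k L] : Submodule k (UniversalEnvelopingAlgebra k L) :=
  1 ⊔ LinearMap.range ((UniversalEnvelopingAlgebra.ι k).toLinearMap : L →ₗ[k] UniversalEnvelopingAlgebra k L)

/-- Powers of elements of the Lie algebra up to a given exponent. -/
def powSpan (k : Type u) [Field k] (L : Type u) [LieRing L] [LieAlgebra k L] (n : ℕ) :
    Submodule k (UniversalEnvelopingAlgebra k L) :=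
  Submodule.span k {u | ∃ (x : L) (i : ℕ), i ≤ n ∧ u = UniversalEnvelopingAlgebra.ι k x ^ i}

/-- The symmetrised product of `y` with copies of `z`. -/
def symProd {A : Type u} [Ring A] (z y : A) : ℕ → A
  | 0 => 0
  | m + 1 => symProd z y m * z + z ^ m * y

theorem ι_mem_gen (x : L) : UniversalEnvelopingAlgebra.ι k x ∈ gen k L :=
  Submodule.mem_sup_right ⟨x, rfl⟩

theorem one_le_gen : (1 : Submodule k (UniversalEnvelopingAlgebra k L)) ≤ gen k L := le_sup_left

theorem mul_mem_succ {a b : UniversalEnvelopingAlgebra k L} {n : ℕ} (ha : a ∈ gen k L) (hb : b ∈ gen k L ^ n) :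
    a * b ∈ gen k L ^ (n + 1) := by
  rw [pow_succ']; exact Submodule.mul_mem_mul ha hb

theorem mul_mem_succ' {a b : UniversalEnvelopingAlgebra k L} {n : ℕ} (ha : a ∈ gen k L ^ n) (hb : b ∈ gen k L) :
    a * b ∈ gen k L ^ (n + 1) := by
  rw [pow_succ]; exact Submodule.mul_mem_mul ha hb

theorem ι_pow_mem (x : L) (i : ℕ) : UniversalEnvelopingAlgebra.ι k x ^ i ∈ gen k L ^ i :=
  Submodule.pow_mem_pow _ (ι_mem_gen x) i

theorem comm_mem (z y : L) (m : ℕ) :
    UniversalEnvelopingAlgebra.ι k z ^ m * UniversalEnvelopingAlgebra.ι k y -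
      UniversalEnvelopingAlgebra.ι k y * UniversalEnvelopingAlgebra.ι k z ^ m ∈ gen k L ^ m := by
  induction m with
  | zero => simp
  | succ m ih =>
    have e : UniversalEnvelopingAlgebra.ι k z ^ (m + 1) * UniversalEnvelopingAlgebra.ι k y -
        UniversalEnvelopingAlgebra.ι k y * UniversalEnvelopingAlgebra.ι k z ^ (m + 1) =
        UniversalEnvelopingAlgebra.ι k z * (UniversalEnvelopingAlgebra.ι k z ^ m * UniversalEnvelopingAlgebra.ι k y -
          UniversalEnvelopingAlgebra.ι k y * UniversalEnvelopingAlgebra.ι k z ^ m) +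
        UniversalEnvelopingAlgebra.ι k ⁅z, y⁆ * UniversalEnvelopingAlgebra.ι k z ^ m := by
      rw [LieHom.map_lie, LieRing.of_associative_ring_bracket, pow_succ', sub_mul, mul_sub]
      simp only [mul_assoc]
      abel
    rw [e]
    exact add_mem (mul_mem_succ (ι_mem_gen _) ih) (mul_mem_succ (ι_mem_gen _) (ι_pow_mem z m))

theorem symProd_mem (z y : L) (m : ℕ) :
    symProd (UniversalEnvelopingAlgebra.ι k z) (UniversalEnvelopingAlgebra.ι k y) (m + 1) -
      ((m + 1 : ℕ) : k) • (UniversalEnvelopingAlgebra.ι k y * UniversalEnvelopingAlgebra.ι k z ^ m) ∈ gen k L ^ m := by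
  induction m with
  | zero => simp [symProd]
  | succ m ih =>
    have e : symProd (UniversalEnvelopingAlgebra.ι k z) (UniversalEnvelopingAlgebra.ι k y) (m + 1 + 1) -
        ((m + 1 + 1 : ℕ) : k) • (UniversalEnvelopingAlgebra.ι k y * UniversalEnvelopingAlgebra.ι k z ^ (m + 1)) =
        (symProd (UniversalEnvelopingAlgebra.ι k z) (UniversalEnvelopingAlgebra.ι k y) (m + 1) -
          ((m + 1 : ℕ) : k) • (UniversalEnvelopingAlgebra.ι k y * UniversalEnvelopingAlgebra.ι k z ^ m)) *
            UniversalEnvelopingAlgebra.ι k z +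
        (UniversalEnvelopingAlgebra.ι k z ^ (m + 1) * UniversalEnvelopingAlgebra.ι k y -
          UniversalEnvelopingAlgebra.ι k y * UniversalEnvelopingAlgebra.ι k z ^ (m + 1)) := by
      conv_lhs => rw [symProd, Nat.cast_succ, add_smul, one_smul]
      rw [sub_mul, smul_mul_assoc, mul_assoc (UniversalEnvelopingAlgebra.ι k y), ← pow_succ]
      abel
    rw [e]
    exact add_mem (mul_mem_succ' ih (ι_mem_gen _)) (comm_mem z y (m + 1))

theorem symProd_mem_powSpan (z y : L) (m : ℕ) :
    symProd (UniversalEnvelopingAlgebra.ι k z) (UniversalEnvelopingAlgebra.ι k y) m ∈ powSpan k L m := by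
  let a := UniversalEnvelopingAlgebra.ι k z
  let b := UniversalEnvelopingAlgebra.ι k y
  obtain ⟨w, hw0, hw1, hw, hv⟩ : ∃ w : ℕ → UniversalEnvelopingAlgebra k L, w 0 = a ^ m ∧ w 1 = symProd a b m ∧
      (∀ j : ℕ, (a + (j : k) • b) ^ m = ∑ i ∈ Finset.range (m + 1), (j : k) ^ i • w i) ∧ ∀ i, m < i → w i = 0 := by
    induction m with
    | zero => exact ⟨fun i => if i = 0 then 1 else 0, by simp, by simp [symProd], by simp, fun i hi => if_neg (by omega)⟩
    | succ m ih =>
      obtain ⟨w, hw0, hw1, hw, hv⟩ := ih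
      refine ⟨fun i => w i * a + (if i = 0 then 0 else w (i - 1) * b), by simp [hw0, pow_succ],
        by simp [hw1, hw0, symProd], fun j => ?_, fun i hi => ?_⟩
      · rw [pow_succ, hw, Finset.sum_mul]
        simp only [mul_add, smul_add, Finset.sum_add_distrib]
        congr 1
        · rw [Finset.sum_range_succ _ (m + 1), hv (m + 1) (Nat.lt_succ_self m), zero_mul, smul_zero, add_zero]
          exact Finset.sum_congr rfl fun i _ => smul_mul_assoc _ _ _
        · rw [Finset.sum_range_succ' _ (m + 1)]
          simp only [if_pos, if_neg (Nat.succ_ne_zero _), smul_zero, add_zero, Nat.add_sub_cancel]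
          refine Finset.sum_congr rfl fun i _ => ?_
          rw [smul_mul_assoc, mul_smul_comm, smul_smul, ← pow_succ]
      · simp only
        rw [hv i (by omega), zero_mul, zero_add, if_neg (by omega), hv (i - 1) (by omega), zero_mul]
  have h := linCoeff_eq_zero (k := k) (Finset.range (m + 1)) (fun i => i)
    (fun i => (powSpan k L m).mkQ (w i)) fun j => by
      simp only [← map_smul, ← map_sum, ← hw]
      rw [Submodule.mkQ_apply, Submodule.Quotient.mk_eq_zero]
      refine Submodule.subset_span ⟨z + (j : k) • y, m, le_rfl, ?_⟩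
      simp [a, b]
  rw [Finset.sum_ite_eq' (Finset.range (m + 1)) 1] at h
  by_cases hm : 1 < m + 1
  · rw [if_pos (Finset.mem_range.2 hm), Submodule.mkQ_apply, Submodule.Quotient.mk_eq_zero, hw1] at h
    exact h
  · obtain rfl : m = 0 := by omega
    exact zero_mem _

theorem pow_gen_le (n : ℕ) : gen k L ^ n ≤ powSpan k L n := by
  induction n with
  | zero =>
    rw [pow_zero, Submodule.one_eq_span, Submodule.span_le, Set.singleton_subset_iff]
    exact Submodule.subset_span ⟨0, 0, le_rfl, (pow_zero _).symm⟩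
  | succ n ih =>
    have mono : ∀ {i j : ℕ}, i ≤ j → powSpan k L i ≤ powSpan k L j := fun h =>
      Submodule.span_mono fun u ⟨x, l, hl, e⟩ => ⟨x, l, hl.trans h, e⟩
    rw [pow_succ', Submodule.mul_le]
    intro a ha u hu
    obtain ⟨p, hp, q, ⟨y, rfl⟩, rfl⟩ := Submodule.mem_sup.1 ha
    obtain ⟨c, rfl⟩ := Submodule.mem_one.1 hp
    rw [add_mul, ← Algebra.smul_def]
    refine add_mem (Submodule.smul_mem _ c (mono (Nat.le_succ n) (ih hu))) ?_
    have hu' := ih hu
    clear hu ha hp
    induction hu' using Submodule.span_induction with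
    | zero => rw [mul_zero]; exact zero_mem _
    | add p q _ _ hp hq => rw [mul_add]; exact add_mem hp hq
    | smul c p _ hp => rw [mul_smul_comm]; exact Submodule.smul_mem _ c hp
    | mem u hu =>
      obtain ⟨z, i, hi, rfl⟩ := hu
      have h1 := mono (show i + 1 ≤ n + 1 by omega) (symProd_mem_powSpan z y (i + 1))
      have hgi : gen k L ^ i ≤ powSpan k L (n + 1) :=
        ((pow_right_mono₀ one_le_gen hi).trans ih).trans (mono (Nat.le_succ n))
      have h2 := sub_mem h1 (hgi (symProd_mem z y i))
      rw [sub_sub_cancel] at h2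
      exact (Submodule.smul_mem_iff _ (Nat.cast_ne_zero.2 (Nat.succ_ne_zero i))).1 h2

theorem mem_span_pow (u : UniversalEnvelopingAlgebra k L) :
    u ∈ Submodule.span k {v | ∃ (x : L) (i : ℕ), v = UniversalEnvelopingAlgebra.ι k x ^ i} := by
  obtain ⟨n, hn⟩ : ∃ n, u ∈ gen k L ^ n := by
    obtain ⟨t, rfl⟩ : ∃ t, UniversalEnvelopingAlgebra.mkAlgHom k L t = u := RingCon.mkₐ_surjective _ u
    induction t using TensorAlgebra.induction with
    | algebraMap r => exact ⟨0, by rw [pow_zero, AlgHom.commutes]; exact Submodule.mem_one.2 ⟨r, rfl⟩⟩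
    | ι x => exact ⟨1, by rw [pow_one]; exact ι_mem_gen x⟩
    | mul a b ha hb =>
      obtain ⟨i, hi⟩ := ha; obtain ⟨j, hj⟩ := hb
      exact ⟨i + j, by rw [map_mul, pow_add]; exact Submodule.mul_mem_mul hi hj⟩
    | add a b ha hb =>
      obtain ⟨i, hi⟩ := ha; obtain ⟨j, hj⟩ := hb
      refine ⟨max i j, ?_⟩
      rw [map_add]
      exact add_mem (pow_right_mono₀ one_le_gen (le_max_left i j) hi) (pow_right_mono₀ one_le_gen (le_max_right i j) hj)
  exact Submodule.span_mono (fun v hv => by obtain ⟨x, i, -, e⟩ := hv; exact ⟨x, i, e⟩) (pow_gen_le n hn)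

end Groth.Agent.CartierKostant
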