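import Groth.Agent.CartierKostant.Nilpotent
import Groth.Agent.CartierKostant.Series
import Groth.Agent.CartierKostant.Span

/-!
The theorem of Cartier and Kostant: a connected cocommutative bialgebra in characteristic zero is the
enveloping algebra of its primitive elements.
-/

set_option autoImplicit false
set_option linter.style.haveILetI false
set_option backward.isDefEq.respectTransparency false
set_option synthInstance.maxHeartbeats 400000
set_option maxHeartbeats 1000000

universe u

open TensorProduct WithConv LinearMap SGA3y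

namespace Groth.Agent.CartierKostant

attribute [local instance 100] LieRing.ofAssociativeRing

variable {k : Type u} [Field k] {H : Type u} [Ring H] [Bialgebra k H]

theorem algHom_comp_pow {C A B : Type u} [AddCommGroup C] [Module k C] [Coalgebra k C]
    [Ring A] [Algebra k A] [Ring B] [Algebra k B] (h : A →ₐ[k] B) (F : WithConv (C →ₗ[k] A)) (j : ℕ) :
    toConv (h.toLinearMap.comp (F ^ j).ofConv) = (toConv (h.toLinearMap.comp F.ofConv)) ^ j := by
  induction j with
  | zero => ext x; simp
  | succ j ih =>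
    rw [pow_succ, pow_succ, ← ih, algHom_comp_convMul_distrib]

theorem counit_primitive {p : H} (hp : p ∈ primLie k H) : Coalgebra.counit (R := k) p = 0 := by
  have hp' : Coalgebra.comul (R := k) p = p ⊗ₜ[k] (1 : H) + (1 : H) ⊗ₜ[k] p := hp
  have h := congrArg (TensorProduct.lid k H) (Coalgebra.rTensor_counit_comul (R := k) p)
  rw [hp', map_add, map_add] at h
  simp only [LinearMap.rTensor_tmul, TensorProduct.lid_tmul, Bialgebra.counit_one, one_smul] at h
  simpa using congrArg (Coalgebra.counit (R := k)) (add_eq_right.1 h)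

theorem comul_pow_primitive {p : H} (hp : p ∈ primLie k H) (n : ℕ) :
    Coalgebra.comul (R := k) (p ^ n) =
      ∑ m ∈ Finset.range (n + 1), (n.choose m : k) • ((p ^ m) ⊗ₜ[k] (p ^ (n - m))) := by
  have hp' : Coalgebra.comul (R := k) p = p ⊗ₜ[k] (1 : H) + (1 : H) ⊗ₜ[k] p := hp
  have hc : Commute (p ⊗ₜ[k] (1 : H)) ((1 : H) ⊗ₜ[k] p) := by
    simp [Commute, SemiconjBy, Algebra.TensorProduct.tmul_mul_tmul]
  rw [Bialgebra.comul_pow, hp', hc.add_pow]
  refine Finset.sum_congr rfl fun m _ => ?_
  rw [Algebra.TensorProduct.tmul_pow, Algebra.TensorProduct.tmul_pow, one_pow, one_pow,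
    Algebra.TensorProduct.tmul_mul_tmul, mul_one, one_mul, Nat.cast_smul_eq_nsmul, nsmul_eq_mul,
    Nat.cast_comm]

theorem id_pow_primitive {p : H} (hp : p ∈ primLie k H) (j n : ℕ) :
    ((toConv (LinearMap.id : H →ₗ[k] H)) ^ j) (p ^ n) = (j : k) ^ n • p ^ n := by
  induction j generalizing n with
  | zero =>
    rw [pow_zero, convOne_apply, Bialgebra.counit_pow, counit_primitive hp, Nat.cast_zero,
      Algebra.algebraMap_eq_smul_one]
    cases n <;> simp
  | succ j ih =>
    rw [pow_succ, convMul_apply, comul_pow_primitive hp]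
    simp only [map_sum, map_smul, TensorProduct.map_tmul, mul'_apply, ofConv_toConv, LinearMap.id_coe, id_eq]
    rw [Nat.cast_succ, add_pow, Finset.sum_smul]
    refine Finset.sum_congr rfl fun m hm => ?_
    rw [show ((toConv (LinearMap.id : H →ₗ[k] H)) ^ j).ofConv (p ^ m) = _ from ih m, smul_mul_assoc, smul_smul,
      ← pow_add, Nat.add_sub_cancel' (Nat.lt_succ_iff.1 (Finset.mem_range.1 hm)), one_pow, mul_one,
      mul_comm]

/-- The identity minus the convolution unit. -/
noncomputable def idSub (k H : Type u) [Field k] [Ring H] [Bialgebra k H] : WithConv (H →ₗ[k] H) :=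
  toConv LinearMap.id - 1

theorem idSub_one : idSub k H 1 = 0 := by
  change (1 : H) - algebraMap k H (Coalgebra.counit (1 : H)) = 0
  rw [Bialgebra.counit_one, map_one, sub_self]

theorem pow_one_eq_zero {A : Type u} [Ring A] [Algebra k A] {f : WithConv (H →ₗ[k] A)} (hf : f 1 = 0) :
    ∀ m, 1 ≤ m → (f ^ m) 1 = 0 := by
  intro m hm
  obtain ⟨m, rfl⟩ := Nat.exists_eq_add_of_le' hm
  rw [pow_succ, convMul_apply, Bialgebra.comul_one, Algebra.TensorProduct.one_def, TensorProduct.map_tmul,
    mul'_apply, hf, mul_zero]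

variable [Coalgebra.IsCocomm k H]

theorem locNil_of_one (hconn : IsConnectedCoalg k H) {A : Type u} [Ring A] [Algebra k A]
    (f : WithConv (H →ₗ[k] A)) (hf : f 1 = 0) : LocNil f := fun x => by
  obtain ⟨N, hN⟩ := exists_bound hconn x
  exact ⟨N, fun m hm => hN A f hf m hm⟩

variable [CharZero k] (hconn : IsConnectedCoalg k H)

/-- The first Eulerian idempotent. -/
noncomputable def eul : WithConv (H →ₗ[k] H) :=
  ev (idSub k H) (locNil_of_one hconn _ idSub_one) (PowerSeries.log k)

theorem locNil_eul : LocNil (eul hconn) := locNil_ev _ PowerSeries.constantCoeff_log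

theorem eul_one : eul hconn 1 = 0 := by
  rw [eul, ev_apply _ _ (pow_one_eq_zero idSub_one)]
  simp [PowerSeries.coeff_zero_eq_constantCoeff_apply]

/-- The inverse factorials in `k`. -/
noncomputable def invFact (k : Type u) [Field k] [CharZero k] (m : ℕ) : k :=
  algebraMap ℚ k (1 / (m.factorial : ℚ))

theorem invFact_mul (m : ℕ) : invFact k m * (m.factorial : k) = 1 := by
  rw [invFact, ← map_natCast (algebraMap ℚ k) m.factorial, ← map_mul, one_div,
    inv_mul_cancel₀ (Nat.cast_ne_zero.2 m.factorial_ne_zero), map_one]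

theorem id_pow_apply (j : ℕ) {x : H} {N : ℕ} (hN : ∀ m, N ≤ m → (eul hconn ^ m) x = 0) :
    ((toConv (LinearMap.id : H →ₗ[k] H)) ^ j) x =
      ∑ m ∈ Finset.range N, (j : k) ^ m • (invFact k m • (eul hconn ^ m) x) := by
  have hJ := locNil_of_one hconn (idSub k H) idSub_one
  have h1 : toConv (LinearMap.id : H →ₗ[k] H) = ev _ hJ (1 + PowerSeries.X) := by
    rw [ev_add, ev_one, ev_X, idSub, add_sub_cancel]
  rw [h1, ← ev_pow, ← exp_subst_log, ← PowerSeries.subst_pow PowerSeries.HasSubst.log,
    ev_subst hJ _ PowerSeries.constantCoeff_log (locNil_eul hconn), PowerSeries.exp_pow_eq_rescale_exp]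
  change ev (eul hconn) (locNil_eul hconn) _ x = _
  rw [ev_apply _ _ hN]
  refine Finset.sum_congr rfl fun m _ => ?_
  rw [PowerSeries.coeff_rescale, PowerSeries.coeff_exp, mul_smul, invFact]

theorem eul_pow_primitive {p : H} (hp : p ∈ primLie k H) (n : ℕ) :
    eul hconn (p ^ n) = if n = 1 then p ^ n else 0 := by
  obtain ⟨N₀, hN₀⟩ := locNil_eul hconn (p ^ n)
  have hN : ∀ m, max N₀ 2 ≤ m → (eul hconn ^ m) (p ^ n) = 0 := fun m hm =>
    hN₀ m (le_trans (le_max_left _ _) hm)
  have h := linCoeff_eq_zero (k := k) ((Finset.range (max N₀ 2)).disjSum ({()} : Finset Unit))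
    (Sum.elim id fun _ => n)
    (Sum.elim (fun m => invFact k m • (eul hconn ^ m) (p ^ n)) fun _ => -(p ^ n)) fun j => by
      rw [Finset.sum_disjSum]
      simp only [Sum.elim_inl, Sum.elim_inr, id_eq, Finset.sum_singleton]
      rw [← id_pow_apply hconn j hN, id_pow_primitive hp, smul_neg, add_neg_cancel]
  rw [Finset.sum_disjSum] at h
  simp only [Sum.elim_inl, Sum.elim_inr, id_eq, Finset.sum_singleton, Finset.sum_ite_eq',
    Finset.mem_range, if_pos (lt_of_lt_of_le one_lt_two (le_max_right N₀ 2)), pow_one] at h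
  rw [show invFact k 1 = 1 by simp [invFact], one_smul] at h
  rw [eq_neg_of_add_eq_zero_left h]
  split <;> simp

theorem eul_mem (x : H) : eul hconn x ∈ primLie k H := by
  classical
  change Coalgebra.comul (R := k) (eul hconn x) = eul hconn x ⊗ₜ[k] (1 : H) + (1 : H) ⊗ₜ[k] eul hconn x
  obtain ⟨s, hs⟩ := TensorProduct.exists_finset (Coalgebra.comul (R := k) x)
  have hloc := locNil_eul hconn
  choose N₀ hN₀ using hloc
  let M := max (max (N₀ x) 2) (s.sup fun p => max (N₀ p.1) (N₀ p.2))
  have hx : ∀ m, M ≤ m → (eul hconn ^ m) x = 0 := fun m hm =>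
    hN₀ x m ((le_max_left _ _).trans ((le_max_left _ _).trans hm))
  have hM : 2 ≤ M := (le_max_right _ _).trans (le_max_left _ _)
  have hl : ∀ p ∈ s, ∀ m, M ≤ m → (eul hconn ^ m) p.1 = 0 := fun p hp m hm =>
    hN₀ _ m ((le_max_left _ _).trans ((Finset.le_sup (f := fun p => max (N₀ p.1) (N₀ p.2)) hp).trans
      ((le_max_right _ _).trans hm)))
  have hr : ∀ p ∈ s, ∀ m, M ≤ m → (eul hconn ^ m) p.2 = 0 := fun p hp m hm =>
    hN₀ _ m ((le_max_right _ _).trans ((Finset.le_sup (f := fun p => max (N₀ p.1) (N₀ p.2)) hp).trans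
      ((le_max_right _ _).trans hm)))
  let idc : WithConv (H →ₗ[k] H) := toConv LinearMap.id
  let δ : H →ₐ[k] H ⊗[k] H := Bialgebra.comulAlgHom k H
  let I1 : H →ₐ[k] H ⊗[k] H := Algebra.TensorProduct.includeLeft
  let I2 : H →ₐ[k] H ⊗[k] H := Algebra.TensorProduct.includeRight
  have e12 : toConv I1.toLinearMap * toConv I2.toLinearMap = toConv δ.toLinearMap := by
    ext y
    rw [convMul_apply]
    change _ = Coalgebra.comul (R := k) y
    generalize Coalgebra.comul (R := k) y = t
    induction t using TensorProduct.induction_on with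
    | zero => simp
    | tmul a b => simp [I1, I2, mul'_apply, Algebra.TensorProduct.tmul_mul_tmul]
    | add a b ha hb => rw [map_add, map_add, ha, hb]
  have e21 : toConv I2.toLinearMap * toConv I1.toLinearMap = toConv δ.toLinearMap := by
    ext y
    rw [convMul_apply]
    change _ = Coalgebra.comul (R := k) y
    conv_rhs => rw [← Coalgebra.comm_comul k y]
    generalize Coalgebra.comul (R := k) y = t
    induction t using TensorProduct.induction_on with
    | zero => simp
    | tmul a b => simp [I1, I2, mul'_apply, Algebra.TensorProduct.tmul_mul_tmul]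
    | add a b ha hb => simp only [map_add, ha, hb]
  have key : ∀ j : ℕ, δ ((idc ^ j) x) = ∑ p ∈ s, (idc ^ j) p.1 ⊗ₜ[k] (idc ^ j) p.2 := fun j => by
    have h1 := algHom_comp_pow δ idc j
    have h2 := algHom_comp_pow I1 idc j
    have h3 := algHom_comp_pow I2 idc j
    simp only [idc, ofConv_toConv, LinearMap.comp_id] at h1 h2 h3
    rw [← e12, (show Commute (toConv I1.toLinearMap) (toConv I2.toLinearMap) from e12.trans e21.symm).mul_pow,
      ← h2, ← h3] at h1
    have := congrArg (fun F : WithConv (H →ₗ[k] H ⊗[k] H) => F x) h1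
    refine this.trans ?_
    rw [convMul_apply, hs, map_sum, map_sum]
    refine Finset.sum_congr rfl fun p _ => ?_
    simp [I1, I2, idc, mul'_apply, Algebra.TensorProduct.tmul_mul_tmul]
  let v : ℕ → H → H := fun m y => invFact k m • (eul hconn ^ m) y
  have hv0 : ∀ y, v 0 y = Coalgebra.counit (R := k) y • (1 : H) := fun y => by
    simp [v, invFact, Algebra.algebraMap_eq_smul_one]
  have hv1 : ∀ y, v 1 y = eul hconn y := fun y => by
    simp [v, invFact]
  have h := linCoeff_eq_zero (k := k)
    ((Finset.range M).disjSum (s ×ˢ (Finset.range M ×ˢ Finset.range M)))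
    (Sum.elim id fun q => q.2.1 + q.2.2)
    (Sum.elim (fun m => δ (v m x)) fun q => -(v q.2.1 q.1.1 ⊗ₜ[k] v q.2.2 q.1.2)) fun j => by
      rw [Finset.sum_disjSum]
      simp only [Sum.elim_inl, Sum.elim_inr, id_eq, smul_neg, Finset.sum_neg_distrib, ← map_smul,
        ← map_sum]
      rw [← id_pow_apply hconn j hx, key, ← sub_eq_add_neg, sub_eq_zero, Finset.sum_product]
      refine Finset.sum_congr rfl fun p hp => ?_
      rw [id_pow_apply hconn j (hl p hp), id_pow_apply hconn j (hr p hp), TensorProduct.sum_tmul,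
        Finset.sum_product]
      refine Finset.sum_congr rfl fun m _ => ?_
      rw [TensorProduct.tmul_sum]
      refine Finset.sum_congr rfl fun n _ => ?_
      simp only [v, TensorProduct.tmul_smul, TensorProduct.smul_tmul', smul_smul, pow_add]
      congr 2
      ring
  rw [Finset.sum_disjSum] at h
  simp only [Sum.elim_inl, Sum.elim_inr, id_eq, Finset.sum_ite_eq', Finset.mem_range,
    if_pos (lt_of_lt_of_le one_lt_two hM), hv1] at h
  rw [Finset.sum_product] at h
  have hsum : ∀ p : H × H,
      (∑ q ∈ Finset.range M ×ˢ Finset.range M, if q.1 + q.2 = 1 then -(v q.1 p.1 ⊗ₜ[k] v q.2 p.2) else 0) =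
        -(v 1 p.1 ⊗ₜ[k] v 0 p.2) + -(v 0 p.1 ⊗ₜ[k] v 1 p.2) := fun p => by
    rw [Finset.sum_eq_add (1, 0) (0, 1) (by simp) (fun q _ hq => if_neg ?_) (fun hq => absurd ?_ hq)
      (fun hq => absurd ?_ hq)]
    · simp
    · obtain ⟨a, b⟩ := q
      simp only [ne_eq, Prod.mk.injEq] at hq
      simp only
      omega
    all_goals simp [show 1 < M by omega, show 0 < M by omega]
  simp only [hsum, hv0, hv1, Finset.sum_add_distrib, Finset.sum_neg_distrib] at h
  rw [← neg_add, ← sub_eq_add_neg, sub_eq_zero] at h
  refine h.trans ?_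
  let 𝓡 : Coalgebra.Repr k x (H × H) := ⟨s, Prod.fst, Prod.snd, hs.symm⟩
  congr 1
  · simp only [TensorProduct.tmul_smul, TensorProduct.smul_tmul', ← map_smul, ← TensorProduct.sum_tmul,
      ← map_sum]
    congr 2
    have := congrArg (TensorProduct.rid k H) (Coalgebra.sum_tmul_counit_eq 𝓡)
    simpa [map_sum, 𝓡] using this
  · simp only [← TensorProduct.smul_tmul', ← TensorProduct.tmul_smul, ← map_smul, ← TensorProduct.tmul_sum,
      ← map_sum]
    congr 2
    simpa [𝓡] using Coalgebra.sum_counit_smul 𝓡

/-- The Eulerian idempotent as a map to the enveloping algebra. -/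
noncomputable def toUniv : WithConv (H →ₗ[k] UniversalEnvelopingAlgebra k (primLie k H)) :=
  toConv ((UniversalEnvelopingAlgebra.ι k (L := primLie k H)).toLinearMap.comp
    ({ toFun := fun x => (⟨eul hconn x, eul_mem hconn x⟩ : primLie k H)
       map_add' := fun x y => Subtype.ext (map_add _ x y)
       map_smul' := fun c x => Subtype.ext ((eul hconn).ofConv.map_smul c x) } : H →ₗ[k] primLie k H))

theorem toUniv_apply (x : H) :
    toUniv hconn x = UniversalEnvelopingAlgebra.ι k (⟨eul hconn x, eul_mem hconn x⟩ : primLie k H) := rfl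

theorem toUniv_one : toUniv hconn 1 = 0 := by
  rw [toUniv_apply]
  simp only [eul_one hconn]
  exact map_zero _

theorem toUniv_pow_primitive (p : primLie k H) (m n : ℕ) :
    (toUniv hconn ^ m) ((p : H) ^ n) =
      if n = m then (m.factorial : k) • UniversalEnvelopingAlgebra.ι k p ^ m else 0 := by
  have hE : ∀ l : ℕ, toUniv hconn ((p : H) ^ l) = if l = 1 then UniversalEnvelopingAlgebra.ι k p else 0 := fun l => by
    rw [toUniv_apply]
    simp only [eul_pow_primitive hconn p.2]
    split
    · subst l; simp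
    · exact map_zero _
  induction m generalizing n with
  | zero =>
    rw [pow_zero, convOne_apply, Bialgebra.counit_pow, counit_primitive p.2]
    cases n <;> simp
  | succ m ih =>
    rw [pow_succ, convMul_apply, comul_pow_primitive p.2]
    simp only [map_sum, map_smul, TensorProduct.map_tmul, mul'_apply, ih]
    simp only [show ∀ y, (toUniv hconn).ofConv y = toUniv hconn y from fun _ => rfl, hE]
    by_cases hnm : n = m + 1
    · subst hnm
      rw [if_pos rfl, Finset.sum_eq_single m (fun i _ hi => by rw [if_neg hi, zero_mul, smul_zero])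
        (fun h => absurd (Finset.mem_range.2 (by omega)) h), if_pos rfl, if_pos (by omega), Nat.choose_succ_self_right,
        smul_mul_assoc, smul_smul, Nat.factorial_succ, Nat.cast_mul, pow_succ]
    · rw [if_neg hnm, Finset.sum_eq_zero]
      intro i hi
      by_cases h : i = m
      · rw [if_neg (show ¬(n - i = 1) by omega), mul_zero, smul_zero]
      · rw [if_neg h, zero_mul, smul_zero]

include hconn in
theorem lift_bijective :
    Function.Bijective (UniversalEnvelopingAlgebra.lift k (primLie k H).incl) := by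
  set Φ := UniversalEnvelopingAlgebra.lift k (primLie k H).incl with hΦ
  let ψ := ev (toUniv hconn) (locNil_of_one hconn _ (toUniv_one hconn)) (PowerSeries.exp k)
  have hΦE : toConv (Φ.toLinearMap.comp (toUniv hconn).ofConv) = eul hconn := by
    ext x
    exact UniversalEnvelopingAlgebra.lift_ι_apply k _ _
  have hr : ∀ x, Φ (ψ x) = x := fun x => by
    obtain ⟨N, hN⟩ := exists_bound hconn x
    have hN1 : ∀ m, N ≤ m → (eul hconn ^ m) x = 0 := fun m hm => hN _ _ (eul_one hconn) m hm
    change Φ (ψ x) = x
    have := id_pow_apply hconn 1 hN1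
    rw [pow_one] at this
    rw [show ψ x = _ from ev_apply _ _ (fun m hm => hN _ _ (toUniv_one hconn) m hm), map_sum]
    refine Eq.trans ?_ this.symm
    refine Finset.sum_congr rfl fun m _ => ?_
    rw [map_smul, Nat.cast_one, one_pow, one_smul, PowerSeries.coeff_exp, invFact]
    congr 1
    have h2 := congrArg (fun F : WithConv (H →ₗ[k] H) => F x) (algHom_comp_pow Φ (toUniv hconn) m)
    rw [hΦE] at h2
    exact h2
  have hl : ∀ u, ψ (Φ u) = u := fun u => by
    induction mem_span_pow u using Submodule.span_induction with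
    | zero => simp
    | add a b _ _ ha hb => rw [map_add, map_add, ha, hb]
    | smul c a _ ha => rw [map_smul, map_smul, ha]
    | mem u hu =>
      obtain ⟨y, i, rfl⟩ := hu
      rw [map_pow, hΦ, UniversalEnvelopingAlgebra.lift_ι_apply, LieSubalgebra.coe_incl]
      obtain ⟨N₀, hN₀⟩ := locNil_of_one hconn _ (toUniv_one hconn) ((y : H) ^ i)
      rw [show ψ ((y : H) ^ i) = _ from ev_apply _ _ (N := max N₀ (i + 1))
        (fun m hm => hN₀ m ((le_max_left _ _).trans hm))]
      simp only [toUniv_pow_primitive, smul_ite, smul_zero, Finset.sum_ite_eq]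
      rw [if_pos (Finset.mem_range.2 (lt_of_lt_of_le (Nat.lt_succ_self i) (le_max_right _ _))),
        PowerSeries.coeff_exp, smul_smul, show algebraMap ℚ k (1 / (i.factorial : ℚ)) = invFact k i from rfl,
        invFact_mul, one_smul]
  exact ⟨Function.LeftInverse.injective hl, Function.RightInverse.surjective hr⟩

end Groth.Agent.CartierKostant
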