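import Groth.Prelude.Def_SGA3y
import Groth.Agent.Comod.Subcoalg
import Mathlib.RingTheory.Bialgebra.Convolution
import Mathlib.RingTheory.Artinian.Ring
import Mathlib.LinearAlgebra.Dual.Lemmas

/-!
In a connected cocommutative bialgebra maps killing `1` are locally nilpotent for convolution.
-/

set_option autoImplicit false
set_option linter.style.haveILetI false
set_option backward.isDefEq.respectTransparency false
set_option synthInstance.maxHeartbeats 400000
set_option maxHeartbeats 1000000

universe u

open TensorProduct WithConv LinearMap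

namespace Groth.Agent.CartierKostant

variable {k : Type u} [Field k] {H : Type u} [Ring H] [Bialgebra k H]

section Sub

variable {A : Type u} [Ring A] [Algebra k A] {D : Submodule k H}
  (hD : ∀ d ∈ D, Coalgebra.comul (R := k) d ∈ LinearMap.range (TensorProduct.map D.subtype D.subtype))

include hD in
theorem conv_congr {f f' g g' : WithConv (H →ₗ[k] A)} (hf : ∀ y ∈ D, f y = f' y) (hg : ∀ y ∈ D, g y = g' y) :
    ∀ y ∈ D, (f * g) y = (f' * g') y := by
  intro y hy
  obtain ⟨t, ht⟩ := hD y hy
  rw [convMul_apply, convMul_apply, ← ht, ← LinearMap.comp_apply (g := TensorProduct.map D.subtype D.subtype),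
    ← LinearMap.comp_apply (g := TensorProduct.map D.subtype D.subtype) (f := TensorProduct.map f'.ofConv g'.ofConv),
    ← TensorProduct.map_comp, ← TensorProduct.map_comp]
  rw [show f.ofConv ∘ₗ D.subtype = f'.ofConv ∘ₗ D.subtype from LinearMap.ext fun z => hf z z.2,
    show g.ofConv ∘ₗ D.subtype = g'.ofConv ∘ₗ D.subtype from LinearMap.ext fun z => hg z z.2]

end Sub

theorem mul_mem_pow_add {R : Type u} [CommRing R] (J : Ideal R) {a b : ℕ} {x y : R} (hx : x ∈ J ^ a) (hy : y ∈ J ^ b) :
    x * y ∈ J ^ (a + b) := by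
  rw [pow_add]; exact Ideal.mul_mem_mul hx hy

theorem exists_pow_le {R : Type u} [CommRing R] (I J : Ideal R) [IsArtinianRing (R ⧸ I)]
    (h : ∀ M : Ideal R, M.IsMaximal → I ≤ M → J ≤ M) : ∃ N, J ^ N ≤ I := by
  obtain ⟨N, hN⟩ := IsArtinianRing.isNilpotent_jacobson_bot (R := R ⧸ I)
  refine ⟨N, fun f hf => ?_⟩
  have hle : J.map (Ideal.Quotient.mk I) ≤ (⊥ : Ideal (R ⧸ I)).jacobson := by
    refine le_sInf fun M hM => ?_
    haveI := hM.2
    refine Ideal.map_le_iff_le_comap.2 (h _ (Ideal.comap_isMaximal_of_surjective _ Ideal.Quotient.mk_surjective) fun g hg => ?_)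
    rw [Ideal.mem_comap, Ideal.Quotient.eq_zero_iff_mem.2 hg]; exact M.zero_mem
  have := Ideal.pow_right_mono hle N (Ideal.map_pow (Ideal.Quotient.mk I) J N ▸ Ideal.mem_map_of_mem _ hf)
  rw [hN] at this
  exact Ideal.Quotient.eq_zero_iff_mem.1 (by simpa using this)

theorem smulRight_mul {A : Type u} [Ring A] [Algebra k A] (g g' : WithConv (H →ₗ[k] k)) (a a' : A) :
    toConv (g.ofConv.smulRight a) * toConv (g'.ofConv.smulRight a') = toConv ((g * g').ofConv.smulRight (a * a')) := by
  ext x
  simp only [convMul_apply, LinearMap.smulRight_apply]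
  change mul' k A (TensorProduct.map (g.ofConv.smulRight a) (g'.ofConv.smulRight a') (Coalgebra.comul x)) =
    (mul' k k (TensorProduct.map g.ofConv g'.ofConv (Coalgebra.comul x))) • (a * a')
  generalize Coalgebra.comul (R := k) x = t
  induction t using TensorProduct.induction_on with
  | zero => simp
  | tmul p q => simp [mul'_apply, smul_smul, mul_comm, smul_mul_smul_comm]
  | add p q hp hq => simp only [map_add, hp, hq, add_smul]

variable [Coalgebra.IsCocomm k H]

/-- The functionals killing `1`. -/
def augIdeal : Ideal (WithConv (H →ₗ[k] k)) where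
  carrier := {f | f 1 = 0}
  zero_mem' := rfl
  add_mem' {f g} hf hg := by
    change f 1 + g 1 = 0
    rw [show f 1 = 0 from hf, show g 1 = 0 from hg, add_zero]
  smul_mem' f g hg := by
    change (f * g) 1 = 0
    rw [convMul_apply, Bialgebra.comul_one, Algebra.TensorProduct.one_def, TensorProduct.map_tmul, mul'_apply,
      show g.ofConv 1 = 0 from hg, mul_zero]

theorem exists_bound (hconn : SGA3y.IsConnectedCoalg k H) (x : H) :
    ∃ N : ℕ, ∀ (A : Type u) [Ring A] [Algebra k A] (f : WithConv (H →ₗ[k] A)), f 1 = 0 → ∀ m, N ≤ m → (f ^ m) x = 0 := by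
  classical
  obtain ⟨D, hDfin, hsD, hD⟩ := Comod.exists_finite_subcoalgebra (k := k) (C := H) {x, 1} (Set.toFinite _)
  haveI := hDfin
  have hx : x ∈ D := hsD (by simp)
  have h1 : (1 : H) ∈ D := hsD (by simp)
  let I : Ideal (WithConv (H →ₗ[k] k)) :=
    { carrier := {f | ∀ y ∈ D, f y = 0}
      zero_mem' := fun _ _ => rfl
      add_mem' := fun {f g} hf hg y hy => by
        change f y + g y = 0
        rw [hf y hy, hg y hy, add_zero]
      smul_mem' := fun f g hg y hy => by
        change (f * g) y = 0
        rw [conv_congr hD (f := f) (f' := f) (g := g) (g' := 0) (fun _ _ => rfl) hg y hy, mul_zero]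
        rfl }
  let Q := WithConv (H →ₗ[k] k) ⧸ I
  have hfin : Module.Finite k Q := by
    let res : WithConv (H →ₗ[k] k) →ₗ[k] Module.Dual k D :=
      { toFun := fun f => f.ofConv ∘ₗ D.subtype
        map_add' := fun _ _ => rfl
        map_smul' := fun _ _ => rfl }
    have e : LinearMap.ker res = I.restrictScalars k := by
      ext f
      exact ⟨fun h y hy => LinearMap.congr_fun h ⟨y, hy⟩, fun h => LinearMap.ext fun y => h y y.2⟩
    exact Module.Finite.of_injective ((I.restrictScalars k).liftQ res e.ge) (by
      rw [← LinearMap.ker_eq_bot]; exact Submodule.ker_liftQ_eq_bot' _ _ e.symm)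
  haveI : IsArtinianRing Q := IsArtinianRing.of_finite k Q
  have hmax : ∀ M : Ideal (WithConv (H →ₗ[k] k)), M.IsMaximal → I ≤ M → augIdeal ≤ M := by
    intro M hM hIM
    let Mb : Submodule k (Module.Dual k D) :=
      { carrier := {φ | ∃ f ∈ M, f.ofConv ∘ₗ D.subtype = φ}
        zero_mem' := ⟨0, M.zero_mem, rfl⟩
        add_mem' := by rintro _ _ ⟨f, hf, rfl⟩ ⟨g, hg, rfl⟩; exact ⟨f + g, M.add_mem hf hg, rfl⟩
        smul_mem' := by
          rintro c _ ⟨f, hf, rfl⟩
          exact ⟨c • f, by rw [← algebraMap_smul (WithConv (H →ₗ[k] k)) c f]; exact M.smul_mem _ hf, rfl⟩ }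
    let D' : Submodule k H := (Mb.dualCoannihilator).map D.subtype
    have hD'le : D' ≤ D := Submodule.map_subtype_le _ _
    have hkill : ∀ f ∈ M, ∀ y ∈ D', f y = 0 := by
      rintro f hf _ ⟨y, hy, rfl⟩
      exact (Submodule.mem_dualCoannihilator _).1 hy _ ⟨f, hf, rfl⟩
    have hdual : ∀ g : WithConv (H →ₗ[k] k), (∀ y ∈ D', g y = 0) → g ∈ M := fun g hg => by
      have : g.ofConv ∘ₗ D.subtype ∈ Mb := by
        rw [← Subspace.dualCoannihilator_dualAnnihilator_eq (W := Mb), Submodule.mem_dualAnnihilator]
        exact fun y hy => hg _ ⟨y, hy, rfl⟩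
      obtain ⟨f, hf, e⟩ := this
      have : g - f ∈ M := hIM fun y hy => by
        change g y - f y = 0
        exact sub_eq_zero.2 (LinearMap.congr_fun e ⟨y, hy⟩).symm
      simpa using M.add_mem this hf
    have hne : D' ≠ ⊥ := fun h => hM.ne_top ((Ideal.eq_top_iff_one _).2 (hdual 1 fun y hy => by
      rw [h, Submodule.mem_bot] at hy; rw [hy]; exact map_zero _))
    have hmem : ∀ {b : H}, b ∈ D → (∀ f ∈ M, f b = 0) → b ∈ D' := fun {b} hb h =>
      ⟨⟨b, hb⟩, (Submodule.mem_dualCoannihilator _).2 (by rintro _ ⟨f, hf, rfl⟩; exact h f hf), rfl⟩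
    have h1' : (1 : H) ∈ D' := hconn D' (fun b hb => Comod.comul_mem_range_map (B := D') (fun φ c hc => ?_) (fun φ c hc => ?_) hb) hne
    · intro f hf
      by_contra hfM
      obtain ⟨g, i, hi, e⟩ := hM.exists_inv hfM
      have h := congrArg (fun F : WithConv (H →ₗ[k] k) => F 1) e
      have h' : (g * f) 1 = 0 := augIdeal.smul_mem g hf
      change (g * f) 1 + i 1 = _ at h
      rw [h', hkill i hi 1 h1', convOne_apply, Bialgebra.counit_one] at h
      simp at h
    · refine hmem ?_ fun f hf => ?_
      · obtain ⟨t, ht⟩ := hD c (hD'le hc)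
        rw [← ht]
        clear ht
        induction t using TensorProduct.induction_on with
        | zero => simp
        | tmul p q => simpa using D.smul_mem _ p.2
        | add p q hp hq => simp only [map_add]; exact D.add_mem hp hq
      · have := hkill _ (M.mul_mem_right (toConv φ) hf) c hc
        rw [convMul_apply] at this
        refine Eq.trans ?_ this
        generalize Coalgebra.comul (R := k) c = t
        induction t using TensorProduct.induction_on with
        | zero => simp
        | tmul p q => simp [mul'_apply, mul_comm]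
        | add p q hp hq => simp only [map_add, hp, hq]
    · refine hmem ?_ fun f hf => ?_
      · obtain ⟨t, ht⟩ := hD c (hD'le hc)
        rw [← ht]
        clear ht
        induction t using TensorProduct.induction_on with
        | zero => simp
        | tmul p q => simpa using D.smul_mem _ q.2
        | add p q hp hq => simp only [map_add]; exact D.add_mem hp hq
      · have := hkill _ (M.mul_mem_left (toConv φ) hf) c hc
        rw [convMul_apply] at this
        refine Eq.trans ?_ this
        generalize Coalgebra.comul (R := k) c = t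
        induction t using TensorProduct.induction_on with
        | zero => simp
        | tmul p q => simp [mul'_apply]
        | add p q hp hq => simp only [map_add, hp, hq]
  obtain ⟨N, hN⟩ := exists_pow_le I augIdeal hmax
  refine ⟨N, fun A _ _ f hf m hm => ?_⟩
  let S : ℕ → Submodule k (WithConv (H →ₗ[k] A)) := fun m =>
    Submodule.span k {h | ∃ g ∈ augIdeal ^ m, ∃ a : A, h = toConv (g.ofConv.smulRight a)}
  have hS1 : ∃ h ∈ S 1, ∀ y ∈ D, f y = h y := by
    let b := Module.finBasis k D
    have hext : ∀ i, ∃ β : H →ₗ[k] k, β ∘ₗ D.subtype = b.coord i := fun i =>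
      LinearMap.exists_extend (b.coord i)
    choose β hβ using hext
    let g : Fin (Module.finrank k D) → WithConv (H →ₗ[k] k) := fun i => toConv (β i) - (β i 1) • 1
    have hg1 : ∀ i, g i ∈ augIdeal ^ 1 := fun i => by
      rw [pow_one]
      change β i 1 - β i 1 • (1 : WithConv (H →ₗ[k] k)) 1 = 0
      rw [convOne_apply, Bialgebra.counit_one]; simp
    refine ⟨∑ i, toConv ((g i).ofConv.smulRight (f (b i))),
      Submodule.sum_mem _ fun i _ => Submodule.subset_span ⟨g i, hg1 i, _, rfl⟩, fun y hy => ?_⟩
    have e : ∀ z : D, f z = ∑ i, b.coord i z • f (b i) := fun z => by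
      conv_lhs => rw [← b.sum_repr z]
      rw [Submodule.coe_sum, map_sum]
      simp
    simp only [WithConv.ofConv_sum, LinearMap.sum_apply, ofConv_toConv, LinearMap.smulRight_apply, g,
      ofConv_sub, ofConv_smul, LinearMap.sub_apply, LinearMap.smul_apply, convOne_apply, smul_eq_mul, sub_smul]
    rw [Finset.sum_sub_distrib]
    have e0 : ∑ i, (β i 1 * algebraMap k k (Coalgebra.counit y)) • f (b i) = 0 := by
      have := e ⟨1, h1⟩
      simp only [← hβ, LinearMap.comp_apply, Submodule.subtype_apply] at this
      simp_rw [mul_comm (β _ 1), mul_smul]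
      rw [← Finset.smul_sum, ← this, hf, smul_zero]
    rw [e0, sub_zero, e ⟨y, hy⟩]
    simp [← hβ]
  have hmul : ∀ a b, ∀ h ∈ S a, ∀ h' ∈ S b, h * h' ∈ S (a + b) := by
    intro a b h hh h' hh'
    induction hh using Submodule.span_induction with
    | zero => rw [zero_mul]; exact zero_mem _
    | add p q _ _ hp hq => rw [add_mul]; exact add_mem hp hq
    | smul c p _ hp => rw [smul_mul_assoc]; exact Submodule.smul_mem _ _ hp
    | mem p hp =>
      induction hh' using Submodule.span_induction with
      | zero => rw [mul_zero]; exact zero_mem _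
      | add r q _ _ hr hq => rw [mul_add]; exact add_mem hr hq
      | smul c q _ hq => rw [mul_smul_comm]; exact Submodule.smul_mem _ _ hq
      | mem q hq =>
        obtain ⟨g, hg, u, rfl⟩ := hp
        obtain ⟨g', hg', u', rfl⟩ := hq
        rw [smulRight_mul]
        have hgg := mul_mem_pow_add (R := WithConv (H →ₗ[k] k)) augIdeal hg hg'
        exact Submodule.subset_span ⟨_, hgg, _, rfl⟩
  have hpow : ∀ m, ∃ h ∈ S m, ∀ y ∈ D, (f ^ m) y = h y := by
    intro m
    induction m with
    | zero =>
      refine ⟨1, Submodule.subset_span ⟨1, by simp, 1, ?_⟩, fun y _ => by simp⟩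
      ext z
      simp [Algebra.algebraMap_eq_smul_one]
    | succ m ih =>
      obtain ⟨h, hh, he⟩ := ih
      obtain ⟨h₁, hh₁, he₁⟩ := hS1
      exact ⟨h * h₁, hmul _ _ _ hh _ hh₁, by rw [pow_succ]; exact conv_congr hD he he₁⟩
  obtain ⟨h, hh, he⟩ := hpow m
  rw [he x hx]
  clear he
  induction hh using Submodule.span_induction with
  | zero => rfl
  | add p q _ _ hp hq => change p x + q x = 0; rw [hp, hq, add_zero]
  | smul c p _ hp => change c • p x = 0; rw [hp, smul_zero]
  | mem p hp =>
    obtain ⟨g, hg, a, rfl⟩ := hp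
    change g x • a = 0
    rw [hN (Ideal.pow_le_pow_right hm hg) x hx, zero_smul]

end Groth.Agent.CartierKostant
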